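import Cfsg.Agent.Spor.LyAb.D0

set_option autoImplicit false
set_option maxRecDepth 100000000
set_option Elab.async false

namespace Cfsg.Agent.Spor.LyAb

theorem ok0 : Net.okb 4 n0 = true := by decide +kernel

theorem ok1 : Net.okb 4 n1 = true := by decide +kernel

theorem ok2 : Net.okb 4 n2 = true := by decide +kernel

theorem ok3 : Net.okb 4 n3 = true := by decide +kernel

theorem ok4 : Net.okb 4 n4 = true := by decide +kernel

theorem ok5 : Net.okb 4 n5 = true := by decide +kernel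

theorem rel0 : T.rel 4 [1, 1] 0 4 = true := by decide +kernel

theorem rel1 : T.rel 4 [8, 4, 6, 7] 0 4 = true := by decide +kernel

theorem rel2 : T.rel 4 [10, 4, 4, 6, 7, 7] 0 4 = true := by decide +kernel

theorem rel3 : T.rel 4 [2, 10, 1, 10, 1, 11, 10, 1, 10, 1, 11, 2, 10, 1, 11, 1, 11, 10, 1, 11, 1, 11] 0 4 = true := by decide +kernel

theorem rel4 : T.rel 4 [10, 1, 10, 1, 11, 10, 1, 10, 1, 11, 10, 1, 10, 1, 11, 10, 1, 10, 1, 11] 0 4 = true := by decide +kernel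

theorem rel5 : T.rel 4 [2, 2, 2, 2, 2] 0 4 = true := by decide +kernel

theorem rel6 : T.rel 4 [2, 10, 1, 10, 1, 11, 2, 10, 1, 10, 1, 11, 2, 10, 1, 10, 1, 11, 2, 10, 1, 11, 1, 11, 5, 10, 1, 11, 1, 11] 0 4 = true := by decide +kernel

theorem rel7 : T.rel 4 [10, 2, 11, 5, 5] 0 4 = true := by decide +kernel

theorem rel8 : T.rel 4 [10, 1, 2, 2, 11, 2, 1, 11, 10, 1, 10, 1, 11] 0 4 = true := by decide +kernel

theorem rel9 : T.rel 4 [10, 10, 10, 1, 11, 1, 11, 10, 1, 11, 1, 11] 0 4 = true := by decide +kernel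

theorem rel10 : T.rel 4 [10, 1, 2, 2, 1, 11, 5, 1, 11, 10, 1, 10, 1, 11, 5] 0 4 = true := by decide +kernel

theorem rel11 : T.rel 4 [1, 2, 10, 1, 10, 1, 11, 5, 10, 1, 11, 1, 11, 2, 2, 10, 1, 11, 1, 11, 5, 5] 0 4 = true := by decide +kernel

theorem rel12 : T.rel 4 [8, 8, 11, 11] 0 4 = true := by decide +kernel

theorem rel13 : T.rel 4 [8, 2, 9, 5, 5] 0 4 = true := by decide +kernel

theorem rel14 : T.rel 4 [8, 1, 2, 2, 9, 2, 1, 9, 11, 1, 11, 1, 11] 0 4 = true := by decide +kernel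

theorem rel15 : T.rel 4 [8, 1, 10, 1, 9, 1, 11, 1] 0 4 = true := by decide +kernel

theorem rel16 : T.rel 4 [3, 3, 9, 9] 0 4 = true := by decide +kernel

theorem rel17 : T.rel 4 [3, 2, 6, 5, 5] 0 4 = true := by decide +kernel

theorem rel18 : T.rel 4 [3, 1, 2, 2, 6, 2, 1, 6, 9, 1, 9, 1, 9] 0 4 = true := by decide +kernel

theorem rel19 : T.rel 4 [3, 1, 10, 1, 6, 1, 11, 1] 0 4 = true := by decide +kernel

theorem rel20 : T.rel 4 [3, 1, 8, 1, 6, 1, 9, 1] 0 4 = true := by decide +kernel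

theorem rel21 : T.rel 4 [4, 1, 7, 6, 6, 1] 0 4 = true := by decide +kernel

theorem rel22 : T.rel 4 [7, 3, 2, 6, 4, 2] 0 4 = true := by decide +kernel

theorem rel23 : T.rel 4 [7, 3, 4, 6, 4, 6, 9, 11] 0 4 = true := by decide +kernel

theorem hcov : T.treeCov (ones 10) L 1 = true := by decide +kernel

theorem hg : lall (fun z => band (memL L z) (band (sub (ones 10) (T.let z).cl) (T.closed (ones 10) z))) gs = true := by decide +kernel

theorem rot1_1 : T.rot 1 [1] (sel (ones 10) ip1 1) = true := by decide +kernel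

theorem rot1_1r : band (Rule.ok (2 * 1) EX RL ⟨1 :: [1], [], 21, false⟩) (lall (memL L) [1]) = true := by decide +kernel

theorem rot1_2 : T.rot 1 [7, 6, 6, 1, 4] (sel (ones 10) ip1 2) = true := by decide +kernel

theorem rot1_2r : band (Rule.ok (2 * 1) EX RL ⟨1 :: [7, 6, 6, 1, 4], [7], 18, true⟩) (lall (memL L) [7, 6, 6, 1, 4]) = true := by decide +kernel

theorem rot1_3 : T.rot 1 [3, 3, 4, 1, 7] (sel (ones 10) ip1 3) = true := by decide +kernel

theorem rot1_3r : band (Rule.ok (2 * 1) EX RL ⟨1 :: [3, 3, 4, 1, 7], [], 18, false⟩) (lall (memL L) [3, 3, 4, 1, 7]) = true := by decide +kernel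

theorem rot1_4 : T.rot 1 [7, 1, 3, 3, 4] (sel (ones 10) ip1 4) = true := by decide +kernel

theorem rot1_4r : band (Rule.ok (2 * 1) EX RL ⟨1 :: [7, 1, 3, 3, 4], [7, 0], 18, false⟩) (lall (memL L) [7, 1, 3, 3, 4]) = true := by decide +kernel

theorem rot1_5 : T.rot 1 [11, 5, 1, 11, 10, 1, 10, 1, 11, 5, 10, 1, 2, 2] (sel (ones 10) ip1 5) = true := by decide +kernel

theorem rot1_5r : band (Rule.ok (2 * 1) EX RL ⟨1 :: [11, 5, 1, 11, 10, 1, 10, 1, 11, 5, 10, 1, 2, 2], [7, 7, 5, 6, 6, 0, 3, 3], 7, true⟩) (lall (memL L) [11, 5, 1, 11, 10, 1, 10, 1, 11, 5, 10, 1, 2, 2]) = true := by decide +kernel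

theorem rot1_6 : T.rot 1 [11, 2, 10, 1, 11, 1, 11, 10, 1, 2, 10, 1, 5, 5] (sel (ones 10) ip1 6) = true := by decide +kernel

theorem rot1_6r : band (Rule.ok (2 * 1) EX RL ⟨1 :: [11, 2, 10, 1, 11, 1, 11, 10, 1, 2, 10, 1, 5, 5], [7, 7, 5, 6, 6, 0], 7, false⟩) (lall (memL L) [11, 2, 10, 1, 11, 1, 11, 10, 1, 2, 10, 1, 5, 5]) = true := by decide +kernel

theorem rot1_7 : T.rot 1 [10, 1, 11, 5, 10, 1, 11, 1, 11, 2, 2, 10, 1, 11, 1, 11, 5, 5, 1, 2, 10] (sel (ones 10) ip1 7) = true := by decide +kernel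

theorem rot1_7r : band (Rule.ok (2 * 1) EX RL ⟨1 :: [10, 1, 11, 5, 10, 1, 11, 1, 11, 2, 2, 10, 1, 11, 1, 11, 5, 5, 1, 2, 10], [0, 3, 7, 7, 5, 6, 6], 8, true⟩) (lall (memL L) [10, 1, 11, 5, 10, 1, 11, 1, 11, 2, 2, 10, 1, 11, 1, 11, 5, 5, 1, 2, 10]) = true := by decide +kernel

theorem cov1 : T.cover 1 [(sel (ones 10) ip1 1), (sel (ones 10) ip1 2), (sel (ones 10) ip1 3), (sel (ones 10) ip1 4), (sel (ones 10) ip1 5), (sel (ones 10) ip1 6), (sel (ones 10) ip1 7), 1] = true := by decide +kernel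

theorem tl1 : T.treeLt 4 1 = true := by decide +kernel

theorem rot2_1 : T.rot 2 [5] (sel (ones 10) ip2 1) = true := by decide +kernel

theorem rot2_1r : band (Rule.ok (2 * 1) EX RL ⟨2 :: [5], [], 21, false⟩) (lall (memL L) [5]) = true := by decide +kernel

theorem rot2_2 : T.rot 2 [10, 5, 11, 2] (sel (ones 10) ip2 2) = true := by decide +kernel

theorem rot2_2r : band (Rule.ok (2 * 1) EX RL ⟨2 :: [10, 5, 11, 2], [3], 4, false⟩) (lall (memL L) [10, 5, 11, 2]) = true := by decide +kernel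

theorem rot2_3 : T.rot 2 [6, 5, 5, 3] (sel (ones 10) ip2 3) = true := by decide +kernel

theorem rot2_3r : band (Rule.ok (2 * 1) EX RL ⟨2 :: [6, 5, 5, 3], [5], 14, true⟩) (lall (memL L) [6, 5, 5, 3]) = true := by decide +kernel

theorem rot2_4 : T.rot 2 [6, 4, 2, 7, 3] (sel (ones 10) ip2 4) = true := by decide +kernel

theorem rot2_4r : band (Rule.ok (2 * 1) EX RL ⟨2 :: [6, 4, 2, 7, 3], [6, 5], 19, true⟩) (lall (memL L) [6, 4, 2, 7, 3]) = true := by decide +kernel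

theorem rot2_5 : T.rot 2 [7, 3, 2, 6, 4] (sel (ones 10) ip2 5) = true := by decide +kernel

theorem rot2_5r : band (Rule.ok (2 * 1) EX RL ⟨2 :: [7, 3, 2, 6, 4], [2], 19, true⟩) (lall (memL L) [7, 3, 2, 6, 4]) = true := by decide +kernel

theorem cov2 : T.cover 2 [(sel (ones 10) ip2 1), (sel (ones 10) ip2 2), (sel (ones 10) ip2 3), (sel (ones 10) ip2 4), (sel (ones 10) ip2 5), 1] = true := by decide +kernel

theorem tl2 : T.treeLt 4 2 = true := by decide +kernel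

theorem rot3_1 : T.rot 3 [9, 9, 3] (sel (ones 10) ip3 1) = true := by decide +kernel

theorem rot3_1r : band (Rule.ok (2 * 1) EX RL ⟨3 :: [9, 9, 3], [5], 13, true⟩) (lall (memL L) [9, 9, 3]) = true := by decide +kernel

theorem rot3_2 : T.rot 3 [7, 9, 4] (sel (ones 10) ip3 2) = true := by decide +kernel

theorem rot3_2r : band (Rule.ok (2 * 1) EX RL ⟨3 :: [7, 9, 4], [], 21, false⟩) (lall (memL L) [7, 9, 4]) = true := by decide +kernel

theorem rot3_3 : T.rot 3 [2, 6, 5, 5] (sel (ones 10) ip3 3) = true := by decide +kernel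

theorem rot3_3r : band (Rule.ok (2 * 1) EX RL ⟨3 :: [2, 6, 5, 5], [], 14, true⟩) (lall (memL L) [2, 6, 5, 5]) = true := by decide +kernel

theorem rot3_4 : T.rot 3 [5, 6, 2, 2] (sel (ones 10) ip3 4) = true := by decide +kernel

theorem rot3_4r : band (Rule.ok (2 * 1) EX RL ⟨3 :: [5, 6, 2, 2], [3, 3], 14, false⟩) (lall (memL L) [5, 6, 2, 2]) = true := by decide +kernel

theorem rot3_5 : T.rot 3 [7, 7, 11, 4, 4] (sel (ones 10) ip3 5) = true := by decide +kernel

theorem rot3_5r : band (Rule.ok (2 * 1) EX RL ⟨3 :: [7, 7, 11, 4, 4], [], 21, false⟩) (lall (memL L) [7, 7, 11, 4, 4]) = true := by decide +kernel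

theorem rot3_6 : T.rot 3 [1, 10, 1, 6, 1, 11, 1] (sel (ones 10) ip3 6) = true := by decide +kernel

theorem rot3_6r : band (Rule.ok (2 * 1) EX RL ⟨3 :: [1, 10, 1, 6, 1, 11, 1], [], 16, true⟩) (lall (memL L) [1, 10, 1, 6, 1, 11, 1]) = true := by decide +kernel

theorem rot3_7 : T.rot 3 [5, 5, 1, 6, 8, 1, 8, 1, 8, 3, 1, 5] (sel (ones 10) ip3 7) = true := by decide +kernel

theorem rot3_7r : band (Rule.ok (2 * 1) EX RL ⟨3 :: [5, 5, 1, 6, 8, 1, 8, 1, 8, 3, 1, 5], [5, 0, 3, 3, 4], 15, false⟩) (lall (memL L) [5, 5, 1, 6, 8, 1, 8, 1, 8, 3, 1, 5]) = true := by decide +kernel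

theorem cov3 : T.cover 3 [(sel (ones 10) ip3 1), (sel (ones 10) ip3 2), (sel (ones 10) ip3 3), (sel (ones 10) ip3 4), (sel (ones 10) ip3 5), (sel (ones 10) ip3 6), (sel (ones 10) ip3 7), 1] = true := by decide +kernel

theorem tl3 : T.treeLt 4 3 = true := by decide +kernel

theorem rot4_1 : T.rot 4 [7] (sel (ones 10) ip4 1) = true := by decide +kernel

theorem rot4_1r : band (Rule.ok (2 * 1) EX RL ⟨4 :: [7], [], 21, false⟩) (lall (memL L) [7]) = true := by decide +kernel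

theorem rot4_2 : T.rot 4 [6, 7, 8] (sel (ones 10) ip4 2) = true := by decide +kernel

theorem rot4_2r : band (Rule.ok (2 * 1) EX RL ⟨4 :: [6, 7, 8], [], 21, false⟩) (lall (memL L) [6, 7, 8]) = true := by decide +kernel

theorem rot4_3 : T.rot 4 [1, 7, 6, 6, 1] (sel (ones 10) ip4 3) = true := by decide +kernel

theorem rot4_3r : band (Rule.ok (2 * 1) EX RL ⟨4 :: [1, 7, 6, 6, 1], [], 18, true⟩) (lall (memL L) [1, 7, 6, 6, 1]) = true := by decide +kernel

theorem rot4_4 : T.rot 4 [2, 7, 3, 2, 6] (sel (ones 10) ip4 4) = true := by decide +kernel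

theorem rot4_4r : band (Rule.ok (2 * 1) EX RL ⟨4 :: [2, 7, 3, 2, 6], [2, 6], 19, true⟩) (lall (memL L) [2, 7, 3, 2, 6]) = true := by decide +kernel

theorem rot4_5 : T.rot 4 [6, 7, 7, 10, 4] (sel (ones 10) ip4 5) = true := by decide +kernel

theorem rot4_5r : band (Rule.ok (2 * 1) EX RL ⟨4 :: [6, 7, 7, 10, 4], [], 21, false⟩) (lall (memL L) [6, 7, 7, 10, 4]) = true := by decide +kernel

theorem rot4_6 : T.rot 4 [6, 4, 6, 9, 11, 7, 3] (sel (ones 10) ip4 6) = true := by decide +kernel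

theorem rot4_6r : band (Rule.ok (2 * 1) EX RL ⟨4 :: [6, 4, 6, 9, 11, 7, 3], [6, 5], 20, true⟩) (lall (memL L) [6, 4, 6, 9, 11, 7, 3]) = true := by decide +kernel

theorem rot4_7 : T.rot 4 [10, 8, 3, 7, 3, 7, 6] (sel (ones 10) ip4 7) = true := by decide +kernel

theorem rot4_7r : band (Rule.ok (2 * 1) EX RL ⟨4 :: [10, 8, 3, 7, 3, 7, 6], [6], 20, false⟩) (lall (memL L) [10, 8, 3, 7, 3, 7, 6]) = true := by decide +kernel

theorem cov4 : T.cover 4 [(sel (ones 10) ip4 1), (sel (ones 10) ip4 2), (sel (ones 10) ip4 3), (sel (ones 10) ip4 4), (sel (ones 10) ip4 5), (sel (ones 10) ip4 6), (sel (ones 10) ip4 7)] = true := by decide +kernel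

theorem tl4 : T.treeLt 4 4 = true := by decide +kernel

theorem rot5_1 : T.rot 5 [2] (sel (ones 10) ip5 1) = true := by decide +kernel

theorem rot5_1r : band (Rule.ok (2 * 1) EX RL ⟨5 :: [2], [], 21, false⟩) (lall (memL L) [2]) = true := by decide +kernel

theorem rot5_2 : T.rot 5 [5, 10, 2, 11] (sel (ones 10) ip5 2) = true := by decide +kernel

theorem rot5_2r : band (Rule.ok (2 * 1) EX RL ⟨5 :: [5, 10, 2, 11], [3, 3], 4, true⟩) (lall (memL L) [5, 10, 2, 11]) = true := by decide +kernel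

theorem rot5_3 : T.rot 5 [6, 2, 2, 3] (sel (ones 10) ip5 3) = true := by decide +kernel

theorem rot5_3r : band (Rule.ok (2 * 1) EX RL ⟨5 :: [6, 2, 2, 3], [5, 3], 14, false⟩) (lall (memL L) [6, 2, 2, 3]) = true := by decide +kernel

theorem rot5_4 : T.rot 5 [7, 3, 5, 6, 4] (sel (ones 10) ip5 4) = true := by decide +kernel

theorem rot5_4r : band (Rule.ok (2 * 1) EX RL ⟨5 :: [7, 3, 5, 6, 4], [], 19, false⟩) (lall (memL L) [7, 3, 5, 6, 4]) = true := by decide +kernel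

theorem rot5_5 : T.rot 5 [6, 4, 5, 7, 3] (sel (ones 10) ip5 5) = true := by decide +kernel

theorem rot5_5r : band (Rule.ok (2 * 1) EX RL ⟨5 :: [6, 4, 5, 7, 3], [6, 5, 3], 19, false⟩) (lall (memL L) [6, 4, 5, 7, 3]) = true := by decide +kernel

theorem cov5 : T.cover 5 [(sel (ones 10) ip5 1), (sel (ones 10) ip5 2), (sel (ones 10) ip5 3), (sel (ones 10) ip5 4), (sel (ones 10) ip5 5)] = true := by decide +kernel

theorem tl5 : T.treeLt 4 5 = true := by decide +kernel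

theorem rot6_1 : T.rot 6 [3] (sel (ones 10) ip6 1) = true := by decide +kernel

theorem rot6_1r : band (Rule.ok (2 * 1) EX RL ⟨6 :: [3], [], 21, false⟩) (lall (memL L) [3]) = true := by decide +kernel

theorem rot6_2 : T.rot 6 [6, 8, 8] (sel (ones 10) ip6 2) = true := by decide +kernel

theorem rot6_2r : band (Rule.ok (2 * 1) EX RL ⟨6 :: [6, 8, 8], [5, 5], 13, false⟩) (lall (memL L) [6, 8, 8]) = true := by decide +kernel

theorem rot6_3 : T.rot 6 [7, 8, 4] (sel (ones 10) ip6 3) = true := by decide +kernel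

theorem rot6_3r : band (Rule.ok (2 * 1) EX RL ⟨6 :: [7, 8, 4], [], 21, false⟩) (lall (memL L) [7, 8, 4]) = true := by decide +kernel

theorem rot6_4 : T.rot 6 [5, 5, 3, 2] (sel (ones 10) ip6 4) = true := by decide +kernel

theorem rot6_4r : band (Rule.ok (2 * 1) EX RL ⟨6 :: [5, 5, 3, 2], [5, 3], 14, true⟩) (lall (memL L) [5, 5, 3, 2]) = true := by decide +kernel

theorem rot6_5 : T.rot 6 [7, 7, 10, 4, 4] (sel (ones 10) ip6 5) = true := by decide +kernel

theorem rot6_5r : band (Rule.ok (2 * 1) EX RL ⟨6 :: [7, 7, 10, 4, 4], [], 21, false⟩) (lall (memL L) [7, 7, 10, 4, 4]) = true := by decide +kernel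

theorem rot6_6 : T.rot 6 [1, 10, 1, 3, 1, 11, 1] (sel (ones 10) ip6 6) = true := by decide +kernel

theorem rot6_6r : band (Rule.ok (2 * 1) EX RL ⟨6 :: [1, 10, 1, 3, 1, 11, 1], [5], 16, false⟩) (lall (memL L) [1, 10, 1, 3, 1, 11, 1]) = true := by decide +kernel

theorem rot6_7 : T.rot 6 [2, 1, 6, 9, 1, 9, 1, 9, 3, 1, 2, 2] (sel (ones 10) ip6 7) = true := by decide +kernel

theorem rot6_7r : band (Rule.ok (2 * 1) EX RL ⟨6 :: [2, 1, 6, 9, 1, 9, 1, 9, 3, 1, 2, 2], [5, 0, 3, 3], 15, true⟩) (lall (memL L) [2, 1, 6, 9, 1, 9, 1, 9, 3, 1, 2, 2]) = true := by decide +kernel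

theorem cov6 : T.cover 6 [(sel (ones 10) ip6 1), (sel (ones 10) ip6 2), (sel (ones 10) ip6 3), (sel (ones 10) ip6 4), (sel (ones 10) ip6 5), (sel (ones 10) ip6 6), (sel (ones 10) ip6 7)] = true := by decide +kernel

theorem tl6 : Nat.beq (T.let 6).tt 0 = true := by decide +kernel

theorem rot7_1 : T.rot 7 [4] (sel (ones 10) ip7 1) = true := by decide +kernel

theorem rot7_1r : band (Rule.ok (2 * 1) EX RL ⟨7 :: [4], [], 21, false⟩) (lall (memL L) [4]) = true := by decide +kernel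

theorem rot7_2 : T.rot 7 [9, 4, 3] (sel (ones 10) ip7 2) = true := by decide +kernel

theorem rot7_2r : band (Rule.ok (2 * 1) EX RL ⟨7 :: [9, 4, 3], [], 21, false⟩) (lall (memL L) [9, 4, 3]) = true := by decide +kernel

theorem rot7_3 : T.rot 7 [1, 3, 3, 4, 1] (sel (ones 10) ip7 3) = true := by decide +kernel

theorem rot7_3r : band (Rule.ok (2 * 1) EX RL ⟨7 :: [1, 3, 3, 4, 1], [7], 18, false⟩) (lall (memL L) [1, 3, 3, 4, 1]) = true := by decide +kernel

theorem rot7_4 : T.rot 7 [3, 5, 6, 4, 5] (sel (ones 10) ip7 4) = true := by decide +kernel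

theorem rot7_4r : band (Rule.ok (2 * 1) EX RL ⟨7 :: [3, 5, 6, 4, 5], [2], 19, false⟩) (lall (memL L) [3, 5, 6, 4, 5]) = true := by decide +kernel

theorem rot7_5 : T.rot 7 [7, 11, 4, 4, 3] (sel (ones 10) ip7 5) = true := by decide +kernel

theorem rot7_5r : band (Rule.ok (2 * 1) EX RL ⟨7 :: [7, 11, 4, 4, 3], [], 21, false⟩) (lall (memL L) [7, 11, 4, 4, 3]) = true := by decide +kernel

theorem rot7_6 : T.rot 7 [3, 7, 6, 4, 10, 8, 3] (sel (ones 10) ip7 6) = true := by decide +kernel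

theorem rot7_6r : band (Rule.ok (2 * 1) EX RL ⟨7 :: [3, 7, 6, 4, 10, 8, 3], [6, 5, 7, 4, 7], 20, false⟩) (lall (memL L) [3, 7, 6, 4, 10, 8, 3]) = true := by decide +kernel

theorem rot7_7 : T.rot 7 [6, 4, 10, 8, 3, 7, 3] (sel (ones 10) ip7 7) = true := by decide +kernel

theorem rot7_7r : band (Rule.ok (2 * 1) EX RL ⟨7 :: [6, 4, 10, 8, 3, 7, 3], [6, 5, 7], 20, false⟩) (lall (memL L) [6, 4, 10, 8, 3, 7, 3]) = true := by decide +kernel

theorem cov7 : T.cover 7 [(sel (ones 10) ip7 1), (sel (ones 10) ip7 2), (sel (ones 10) ip7 3), (sel (ones 10) ip7 4), (sel (ones 10) ip7 5), (sel (ones 10) ip7 6), (sel (ones 10) ip7 7)] = true := by decide +kernel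

theorem tl7 : T.treeLt 4 7 = true := by decide +kernel

theorem rot8_1 : T.rot 8 [8, 11, 11] (sel (ones 10) ip8 1) = true := by decide +kernel

theorem rot8_1r : band (Rule.ok (2 * 1) EX RL ⟨8 :: [8, 11, 11], [6], 13, true⟩) (lall (memL L) [8, 11, 11]) = true := by decide +kernel

theorem rot8_2 : T.rot 8 [4, 6, 7] (sel (ones 10) ip8 2) = true := by decide +kernel

theorem rot8_2r : band (Rule.ok (2 * 1) EX RL ⟨8 :: [4, 6, 7], [], 21, false⟩) (lall (memL L) [4, 6, 7]) = true := by decide +kernel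

theorem rot8_3 : T.rot 8 [2, 9, 5, 5] (sel (ones 10) ip8 3) = true := by decide +kernel

theorem rot8_3r : band (Rule.ok (2 * 1) EX RL ⟨8 :: [2, 9, 5, 5], [], 10, true⟩) (lall (memL L) [2, 9, 5, 5]) = true := by decide +kernel

theorem rot8_4 : T.rot 8 [5, 9, 2, 2] (sel (ones 10) ip8 4) = true := by decide +kernel

theorem rot8_4r : band (Rule.ok (2 * 1) EX RL ⟨8 :: [5, 9, 2, 2], [3, 3], 10, false⟩) (lall (memL L) [5, 9, 2, 2]) = true := by decide +kernel

theorem rot8_5 : T.rot 8 [1, 10, 1, 9, 1, 11, 1] (sel (ones 10) ip8 5) = true := by decide +kernel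

theorem rot8_5r : band (Rule.ok (2 * 1) EX RL ⟨8 :: [1, 10, 1, 9, 1, 11, 1], [], 12, true⟩) (lall (memL L) [1, 10, 1, 9, 1, 11, 1]) = true := by decide +kernel

theorem cov8 : T.cover 8 [(sel (ones 10) ip8 1), (sel (ones 10) ip8 2), (sel (ones 10) ip8 3), (sel (ones 10) ip8 4), (sel (ones 10) ip8 5), 1] = true := by decide +kernel

theorem tl8 : Nat.beq (T.let 8).tt 0 = true := by decide +kernel

theorem rot9_1 : T.rot 9 [8] (sel (ones 10) ip9 1) = true := by decide +kernel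

theorem rot9_1r : band (Rule.ok (2 * 1) EX RL ⟨9 :: [8], [], 21, false⟩) (lall (memL L) [8]) = true := by decide +kernel

theorem rot9_2 : T.rot 9 [4, 3, 7] (sel (ones 10) ip9 2) = true := by decide +kernel

theorem rot9_2r : band (Rule.ok (2 * 1) EX RL ⟨9 :: [4, 3, 7], [], 21, false⟩) (lall (memL L) [4, 3, 7]) = true := by decide +kernel

theorem rot9_3 : T.rot 9 [5, 5, 8, 2] (sel (ones 10) ip9 3) = true := by decide +kernel

theorem rot9_3r : band (Rule.ok (2 * 1) EX RL ⟨9 :: [5, 5, 8, 2], [7, 5, 6, 3], 10, true⟩) (lall (memL L) [5, 5, 8, 2]) = true := by decide +kernel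

theorem rot9_4 : T.rot 9 [1, 10, 1, 8, 1, 11, 1] (sel (ones 10) ip9 4) = true := by decide +kernel

theorem rot9_4r : band (Rule.ok (2 * 1) EX RL ⟨9 :: [1, 10, 1, 8, 1, 11, 1], [7, 5, 6], 12, false⟩) (lall (memL L) [1, 10, 1, 8, 1, 11, 1]) = true := by decide +kernel

theorem cov9 : T.cover 9 [(sel (ones 10) ip9 1), (sel (ones 10) ip9 2), (sel (ones 10) ip9 3), (sel (ones 10) ip9 4)] = true := by decide +kernel

theorem tl9 : Nat.beq (T.let 9).tt 0 = true := by decide +kernel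

theorem rot10_1 : T.rot 10 [10, 9, 9] (sel (ones 10) ip10 1) = true := by decide +kernel

theorem rot10_1r : band (Rule.ok (2 * 1) EX RL ⟨10 :: [10, 9, 9], [6], 13, false⟩) (lall (memL L) [10, 9, 9]) = true := by decide +kernel

theorem rot10_2 : T.rot 10 [2, 11, 5, 5] (sel (ones 10) ip10 2) = true := by decide +kernel

theorem rot10_2r : band (Rule.ok (2 * 1) EX RL ⟨10 :: [2, 11, 5, 5], [], 4, true⟩) (lall (memL L) [2, 11, 5, 5]) = true := by decide +kernel

theorem rot10_3 : T.rot 10 [5, 11, 2, 2] (sel (ones 10) ip10 3) = true := by decide +kernel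

theorem rot10_3r : band (Rule.ok (2 * 1) EX RL ⟨10 :: [5, 11, 2, 2], [3, 3], 4, false⟩) (lall (memL L) [5, 11, 2, 2]) = true := by decide +kernel

theorem rot10_4 : T.rot 10 [4, 4, 6, 7, 7] (sel (ones 10) ip10 4) = true := by decide +kernel

theorem rot10_4r : band (Rule.ok (2 * 1) EX RL ⟨10 :: [4, 4, 6, 7, 7], [], 21, false⟩) (lall (memL L) [4, 4, 6, 7, 7]) = true := by decide +kernel

theorem rot10_5 : T.rot 10 [1, 6, 1, 11, 1, 3, 1] (sel (ones 10) ip10 5) = true := by decide +kernel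

theorem rot10_5r : band (Rule.ok (2 * 1) EX RL ⟨10 :: [1, 6, 1, 11, 1, 3, 1], [5, 0], 16, true⟩) (lall (memL L) [1, 6, 1, 11, 1, 3, 1]) = true := by decide +kernel

theorem rot10_6 : T.rot 10 [8, 3, 7, 3, 7, 6, 4] (sel (ones 10) ip10 6) = true := by decide +kernel

theorem rot10_6r : band (Rule.ok (2 * 1) EX RL ⟨10 :: [8, 3, 7, 3, 7, 6, 4], [], 20, false⟩) (lall (memL L) [8, 3, 7, 3, 7, 6, 4]) = true := by decide +kernel

theorem rot10_7 : T.rot 10 [5, 5, 1, 11, 10, 1, 11, 1, 11, 10, 1, 5] (sel (ones 10) ip10 7) = true := by decide +kernel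

theorem rot10_7r : band (Rule.ok (2 * 1) EX RL ⟨10 :: [5, 5, 1, 11, 10, 1, 11, 1, 11, 10, 1, 5], [7, 7, 5, 6, 6, 0, 7, 7, 4, 6, 6, 2], 5, false⟩) (lall (memL L) [5, 5, 1, 11, 10, 1, 11, 1, 11, 10, 1, 5]) = true := by decide +kernel

theorem cov10 : T.cover 10 [(sel (ones 10) ip10 1), (sel (ones 10) ip10 2), (sel (ones 10) ip10 3), (sel (ones 10) ip10 4), (sel (ones 10) ip10 5), (sel (ones 10) ip10 6), (sel (ones 10) ip10 7), 1] = true := by decide +kernel

theorem tl10 : Nat.beq (T.let 10).tt 0 = true := by decide +kernel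

theorem rot11_1 : T.rot 11 [10] (sel (ones 10) ip11 1) = true := by decide +kernel

theorem rot11_1r : band (Rule.ok (2 * 1) EX RL ⟨11 :: [10], [], 21, false⟩) (lall (memL L) [10]) = true := by decide +kernel

theorem rot11_2 : T.rot 11 [8, 8, 11] (sel (ones 10) ip11 2) = true := by decide +kernel

theorem rot11_2r : band (Rule.ok (2 * 1) EX RL ⟨11 :: [8, 8, 11], [7, 5, 6, 6], 13, true⟩) (lall (memL L) [8, 8, 11]) = true := by decide +kernel

theorem rot11_3 : T.rot 11 [5, 5, 10, 2] (sel (ones 10) ip11 3) = true := by decide +kernel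

theorem rot11_3r : band (Rule.ok (2 * 1) EX RL ⟨11 :: [5, 5, 10, 2], [7, 7, 5, 6, 6, 3], 4, true⟩) (lall (memL L) [5, 5, 10, 2]) = true := by decide +kernel

theorem rot11_4 : T.rot 11 [4, 4, 3, 7, 7] (sel (ones 10) ip11 4) = true := by decide +kernel

theorem rot11_4r : band (Rule.ok (2 * 1) EX RL ⟨11 :: [4, 4, 3, 7, 7], [], 21, false⟩) (lall (memL L) [4, 4, 3, 7, 7]) = true := by decide +kernel

theorem rot11_5 : T.rot 11 [1, 3, 1, 10, 1, 6, 1] (sel (ones 10) ip11 5) = true := by decide +kernel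

theorem rot11_5r : band (Rule.ok (2 * 1) EX RL ⟨11 :: [1, 3, 1, 10, 1, 6, 1], [0, 7, 7, 5, 6, 6], 16, true⟩) (lall (memL L) [1, 3, 1, 10, 1, 6, 1]) = true := by decide +kernel

theorem rot11_6 : T.rot 11 [7, 3, 4, 6, 4, 6, 9] (sel (ones 10) ip11 6) = true := by decide +kernel

theorem rot11_6r : band (Rule.ok (2 * 1) EX RL ⟨11 :: [7, 3, 4, 6, 4, 6, 9], [7, 7, 5, 6, 6], 20, true⟩) (lall (memL L) [7, 3, 4, 6, 4, 6, 9]) = true := by decide +kernel

theorem rot11_7 : T.rot 11 [2, 1, 11, 10, 1, 10, 1, 11, 10, 1, 2, 2] (sel (ones 10) ip11 7) = true := by decide +kernel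

theorem rot11_7r : band (Rule.ok (2 * 1) EX RL ⟨11 :: [2, 1, 11, 10, 1, 10, 1, 11, 10, 1, 2, 2], [7, 7, 5, 6, 6, 0, 3, 3], 5, true⟩) (lall (memL L) [2, 1, 11, 10, 1, 10, 1, 11, 10, 1, 2, 2]) = true := by decide +kernel

theorem cov11 : T.cover 11 [(sel (ones 10) ip11 1), (sel (ones 10) ip11 2), (sel (ones 10) ip11 3), (sel (ones 10) ip11 4), (sel (ones 10) ip11 5), (sel (ones 10) ip11 6), (sel (ones 10) ip11 7)] = true := by decide +kernel

theorem tl11 : Nat.beq (T.let 11).tt 0 = true := by decide +kernel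

end Cfsg.Agent.Spor.LyAb
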