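import Cfsg.Agent.Spor.Chk

set_option autoImplicit false
set_option maxRecDepth 100000000
set_option Elab.async false
noncomputable section

namespace Cfsg.Agent.Spor.LyAb

def m0_0 : Nat := nat_lit 0x110
def n0 : Net := Net.cons 1 m0_0 (Net.nil)

def m1_0 : Nat := nat_lit 0x3
def m1_1 : Nat := nat_lit 0x4
def m1_2 : Nat := nat_lit 0x21
def m1_3 : Nat := nat_lit 0x1
def m1_4 : Nat := nat_lit 0x6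
def m1_5 : Nat := nat_lit 0x3
def n1 : Net := Net.cons 8 m1_0 (Net.cons 4 m1_1 (Net.cons 2 m1_2 (Net.cons 1 m1_3 (Net.cons 4 m1_4 (Net.cons 8 m1_5 (Net.nil))))))

def m2_0 : Nat := nat_lit 0x3
def m2_1 : Nat := nat_lit 0x7
def m2_2 : Nat := nat_lit 0x31
def m2_3 : Nat := nat_lit 0x40
def m2_4 : Nat := nat_lit 0x2
def m2_5 : Nat := nat_lit 0x3
def n2 : Net := Net.cons 8 m2_0 (Net.cons 4 m2_1 (Net.cons 2 m2_2 (Net.cons 1 m2_3 (Net.cons 4 m2_4 (Net.cons 8 m2_5 (Net.nil))))))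

def m3_0 : Nat := nat_lit 0x42
def m3_1 : Nat := nat_lit 0x40a
def m3_2 : Nat := nat_lit 0x120
def m3_3 : Nat := nat_lit 0x104
def m3_4 : Nat := nat_lit 0x1
def m3_5 : Nat := nat_lit 0x402
def m3_6 : Nat := nat_lit 0x41
def n3 : Net := Net.cons 8 m3_0 (Net.cons 4 m3_1 (Net.cons 2 m3_2 (Net.cons 1 m3_3 (Net.cons 2 m3_4 (Net.cons 4 m3_5 (Net.cons 8 m3_6 (Net.nil)))))))

def m4_0 : Nat := nat_lit 0x3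
def m4_1 : Nat := nat_lit 0x3
def m4_2 : Nat := nat_lit 0x31
def m4_3 : Nat := nat_lit 0x44
def m4_4 : Nat := nat_lit 0x1
def m4_5 : Nat := nat_lit 0x3
def m4_6 : Nat := nat_lit 0x3
def n4 : Net := Net.cons 8 m4_0 (Net.cons 4 m4_1 (Net.cons 2 m4_2 (Net.cons 1 m4_3 (Net.cons 2 m4_4 (Net.cons 4 m4_5 (Net.cons 8 m4_6 (Net.nil)))))))

def m5_0 : Nat := nat_lit 0xc0
def m5_1 : Nat := nat_lit 0x301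
def m5_2 : Nat := nat_lit 0x3000
def m5_3 : Nat := nat_lit 0x4001
def m5_4 : Nat := nat_lit 0x301
def m5_5 : Nat := nat_lit 0xc0
def n5 : Net := Net.cons 8 m5_0 (Net.cons 4 m5_1 (Net.cons 2 m5_2 (Net.cons 1 m5_3 (Net.cons 4 m5_4 (Net.cons 8 m5_5 (Net.nil))))))

def ip1 : List Nat := [0x1e4, 0x2c6, 0x388]
def l1 : Let := ⟨0, false, 0x3ff, 0x20, [0xe8, 0xa, 0x4, 0x3c0]⟩

def ip2 : List Nat := [0x18e, 0x304, 0x1a]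
def l2 : Let := ⟨1, false, 0x3ff, 0x140, [0x288, 0x31a, 0x304, 0x0]⟩

def ip3 : List Nat := [0x298, 0x2a2, 0x1a8]
def l3 : Let := ⟨2, false, 0x3ff, 0x210, [0xb0, 0x11a, 0x1a0, 0x200]⟩

def ip4 : List Nat := [0x22c, 0x270, 0x398]
def l4 : Let := ⟨3, false, 0x3ff, 0xa, [0x30c, 0x110, 0x128, 0x2c0]⟩

def ip5 : List Nat := [0x355, 0x284, 0x1a]
def l5 : Let := ⟨1, true, 0x3ff, 0x80, [0x1c9, 0x29a, 0x284, 0x0]⟩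

def ip6 : List Nat := [0x31b, 0x126, 0x1e8]
def l6 : Let := ⟨2, true, 0x3ff, 0x0, [0x335, 0x4e, 0x160, 0x80]⟩

def ip7 : List Nat := [0x3e, 0x170, 0x2d4]
def l7 : Let := ⟨3, true, 0x3ff, 0x4, [0xce, 0x90, 0xa4, 0x340]⟩

def ip8 : List Nat := [0x2a0, 0x206, 0x120]
def l8 : Let := ⟨4, false, 0x3a7, 0x0, [0xa2, 0x186, 0x1a0, 0x200]⟩

def ip9 : List Nat := [0x41, 0x46, 0x20]
def l9 : Let := ⟨4, true, 0x67, 0x0, [0x23, 0x46, 0x60, 0x0]⟩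

def ip10 : List Nat := [0x1e2, 0x3d0, 0xb4]
def l10 : Let := ⟨5, false, 0x3f7, 0x0, [0x66, 0x1c4, 0x1f2, 0x200]⟩

def ip11 : List Nat := [0x361, 0x352, 0x126]
def l11 : Let := ⟨5, true, 0x377, 0x0, [0x235, 0x344, 0x372, 0x0]⟩

def NT : List Net := [n0, n1, n2, n3, n4, n5]
def LT : List Let := [⟨0, false, 0, 0, []⟩, l1, l2, l3, l4, l5, l6, l7, l8, l9, l10, l11]
def T : Tab := ⟨NT, LT⟩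
def EX : List (List Nat) := [[], [0], [2], [4], [6], [3], [5], [7], [7, 4, 6], [7, 5, 6], [7, 7, 4, 6, 6], [7, 7, 5, 6, 6]]
def RL : List (List Nat) := [[7, 7, 5, 6, 6, 0, 7, 7, 5, 5, 6, 6, 0, 7, 7, 4, 6, 6, 2, 7, 7, 5, 6, 6, 0, 7, 7, 4, 4, 6, 6, 0, 7, 7, 4, 6, 6, 2], [7, 7, 5, 6, 6, 0, 7, 7, 4, 4, 4, 4, 6, 6, 0, 7, 7, 4, 6, 6], [2, 2, 2, 2, 2], [7, 7, 5, 6, 6, 0, 7, 7, 5, 6, 6, 0, 7, 7, 4, 6, 6, 3, 7, 7, 5, 6, 6, 0, 7, 7, 5, 6, 6, 0, 7, 7, 4, 6, 6, 2, 7, 7, 5, 6, 6, 0, 7, 7, 4, 6, 6, 0, 7, 7, 4, 6, 6, 2, 7, 7, 5, 6, 6, 0, 7, 7, 4, 6, 6, 0, 7, 7, 4, 6, 6, 2, 7, 7, 5, 6, 6, 0, 7, 7, 4, 6, 6, 0, 7, 7, 4, 6, 6, 2], [3, 3, 7, 7, 5, 6, 6, 2, 7, 7, 4, 6, 6], [7, 7, 5, 6, 6, 0, 7, 7, 4, 6, 6, 2, 7, 7, 5, 6, 6, 2, 2, 0, 7, 7, 4, 6, 6], [7, 7, 5, 6, 6, 0, 7, 7, 5, 5, 6, 6,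 0, 7, 7, 4, 4, 4, 6, 6], [3, 7, 7, 5, 6, 6, 0, 7, 7, 4, 6, 6, 3, 7, 7, 5, 6, 6, 0, 2, 2, 0, 7, 7, 4, 6, 6], [3, 3, 7, 7, 5, 6, 6, 0, 7, 7, 5, 6, 6, 0, 7, 7, 4, 6, 6, 2, 2, 7, 7, 5, 6, 6, 0, 7, 7, 5, 6, 6, 0, 7, 7, 4, 6, 6, 3, 7, 7, 5, 6, 6, 0, 7, 7, 4, 6, 6, 0, 7, 7, 4, 6, 6, 2, 0], [7, 7, 5, 5, 6, 4, 4, 6], [3, 3, 7, 5, 6, 2, 7, 4, 6], [7, 7, 5, 6, 6, 0, 7, 7, 5, 6, 6, 0, 7, 7, 5, 6, 5, 6, 0, 2, 7, 5, 6, 2, 2, 0, 7, 4, 6], [0, 7, 7, 5, 6, 6, 0, 7, 5, 6, 0, 7, 7, 4, 6, 6, 0, 7, 4, 6], [7, 5, 5, 6, 4, 4], [3, 3, 5, 2, 4], [7, 5, 6, 0, 7, 5, 6, 0, 7, 5, 6, 5, 0, 2, 5, 2, 2, 0, 4], [0, 7, 7, 5, 6, 6, 0, 5, 0, 7, 7, 4, 6, 6, 0, 4], [0, 7, 5, 6, 0, 5, 0, 7, 4, 6, 0, 4], [0, 5, 5, 7, 0, 6], [2, 6, 5, 2, 4, 7], [7, 7, 5, 6, 5, 6, 5, 6, 5, 6, 4, 7]]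
def XL : List (List Nat) := []
def BW : List (List Nat) := [[0], [2], [4], [7, 4, 6], [7, 7, 4, 6, 6]]
def IV : Nat := 0xa0b08090403020706050100
def L : List Nat := [1, 2, 3, 4, 5, 6, 7, 8, 9, 10, 11]
def gs : List Nat := [1, 2, 3, 4]
def base : List Nat := [1, 2, 3, 8, 10]

end Cfsg.Agent.Spor.LyAb
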